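import Mathlib
import Cfsg.Agent.Lib.Forms.Max.SL3.Lines.Basic

/-!
# The torus move and the monomial reflections in degree three
-/

set_option autoImplicit false
set_option linter.unusedSectionVars false

namespace Cfsg.Agent.Forms.Max.SL3.Lines

open Matrix Cfsg.Agent.Forms.Max Cfsg.Agent.Forms.Max.LinearMono

variable {F : Type*} [Field F]

/-- three distinct coordinates -/
abbrev Dist (i j k : Fin 3) : Prop := i ≠ j ∧ i ≠ k ∧ j ≠ k

theorem univ_three {i j k : Fin 3} (h : Dist i j k) : (Finset.univ : Finset (Fin 3)) = {i, j, k} := by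
  revert i j k; decide

theorem sum_three {i j k : Fin 3} (h : Dist i j k) (f : Fin 3 → F) : ∑ x, f x = f i + f j + f k := by
  obtain ⟨h1, h2, h3⟩ := h
  rw [univ_three ⟨h1, h2, h3⟩, Finset.sum_insert (by simp [h1, h2]), Finset.sum_insert (by simp [h3]),
    Finset.sum_singleton, add_assoc]

theorem prod_three {i j k : Fin 3} (h : Dist i j k) (f : Fin 3 → F) : ∏ x, f x = f i * f j * f k := by
  obtain ⟨h1, h2, h3⟩ := h
  rw [univ_three ⟨h1, h2, h3⟩, Finset.prod_insert (by simp [h1, h2]), Finset.prod_insert (by simp [h3]),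
    Finset.prod_singleton, mul_assoc]

theorem others_one (i : Fin 3) : ∃ j k, Dist i j k := by revert i; decide

theorem others_two {i j : Fin 3} (h : i ≠ j) : ∃ k, Dist i j k := by revert i j; decide

variable {M : Subgroup (GL (Fin 3) F)} {a μ : F}

theorem sum_one {u φ : Fin 3 → F} (h : Hy M a μ u φ) {i j k : Fin 3} (hd : Dist i j k) :
    u i * φ i + u j * φ j + u k * φ k = 1 := by
  have h1 : ∑ x, u x * φ x = 1 := by
    rw [← h.1]; exact Finset.sum_congr rfl fun x _ => mul_comm _ _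
  rwa [sum_three hd] at h1

variable (S : Std M a μ)

include S

/-- conjugate a transvection by a pseudo-homology -/
theorem rt_hy {u φ w ψ : Fin 3 → F} (h : Rt M u φ) (h' : Hy M a μ w ψ) :
    Rt M (u + ((μ - 1) * (ψ ⬝ᵥ u)) • w) (φ + ((μ⁻¹ - 1) * (φ ⬝ᵥ w)) • ψ) := by
  obtain ⟨hd, g, hg, e⟩ := h
  obtain ⟨hd', k, hk, e'⟩ := h'
  refine ⟨?_, k * g * k⁻¹, mul_mem (mul_mem hk hg) (inv_mem hk), fun x => ?_⟩
  · rw [add_dotProduct, dotProduct_add, dotProduct_add, smul_dotProduct, smul_dotProduct, dotProduct_smul,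
      dotProduct_smul, hd, hd']
    have := S.μ0
    simp only [smul_eq_mul]
    field_simp
    ring
  · rw [mulVec_mul_GL, mulVec_mul_GL, e, mulVec_add, mulVec_inv_cancel, mulVec_smul, e',
      inv_act hd' S.a0 S.μ0 e', dotProduct_smul, dotProduct_add, dotProduct_smul, add_dotProduct, smul_dotProduct]
    have := S.a0
    match_scalars <;> simp [S.a0] <;> field_simp <;> ring

/-- no critical weight unless the factor is minus one -/
theorem nc (hμ : μ ≠ -1) {u φ : Fin 3 → F} (h : Hy M a μ u φ) (i : Fin 3) : 1 + (μ - 1) * (u i * φ i) ≠ 0 := by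
  intro he
  have h2 := hy_hy S (hy_axis S i) h
  rw [dotProduct_single, mul_one, single_dotProduct, one_mul] at h2
  have h3 := (bal S h2 i).1 (by
    rw [Pi.add_apply, Pi.smul_apply, smul_eq_mul, E_self, ← he]; ring)
  rw [Pi.add_apply, Pi.smul_apply, smul_eq_mul, E_self] at h3
  have := S.μ0
  field_simp at h3
  have h5 : (μ - 1) * (μ + 1) * (u i * φ i) = 0 := by linear_combination μ * he - h3
  rcases mul_eq_zero.1 h5 with h6 | h6
  · rcases mul_eq_zero.1 h6 with h7 | h7
    · exact S.m0 h7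
    · exact hμ (eq_neg_of_add_eq_zero_left h7)
  · rw [h6, mul_zero, add_zero] at he; exact one_ne_zero he

/-- conjugate by the torus and apply -/
theorem move {u φ : Fin 3 → F} (h : Hy M a μ u φ) {i j k : Fin 3} (hd : Dist i j k) (hi : u i ≠ 0)
    {A B t : F} (hA : A ≠ 0) (hB : B ≠ 0) (ht : t ^ 3 = A * B)
    (he : (μ - 1) * (u i * φ i + u j * φ j * A + u k * φ k * B) = -1) :
    (μ⁻¹ - 1) * (u i * φ i + u j * φ j / A + u k * φ k / B) = -1 := by
  have hd' := hd
  obtain ⟨d1, d2, d3⟩ := hd'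
  set r : Fin 3 → F := fun x => if x = j then A else if x = k then B else 1 with hr
  have ri : r i = 1 := by simp [hr, d1, d2]
  have rj : r j = A := by simp [hr]
  have rk : r k = B := by simp [hr, d3.symm]
  have hr0 : ∀ x, r x ≠ 0 := fun x => by
    simp only [hr]; split_ifs <;> first | assumption | exact one_ne_zero
  have ht0 : t ≠ 0 := by
    rintro rfl
    exact mul_ne_zero hA hB (by rw [← ht]; ring)
  set s : Fin 3 → Fˣ := fun x => Units.mk0 (t / r x) (div_ne_zero ht0 (hr0 x)) with hs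
  have hm : mon 1 s ∈ M := mon_mem S.above (by
    rw [prod_three hd]
    simp [hs, ri, rj, rk]
    field_simp
    linear_combination ht)
  have h1 := hy_conj h hm
  have e1 : (mon 1 s : Matrix (Fin 3) (Fin 3) F) *ᵥ u = fun x => t / r x * u x := funext fun x => by
    have := mon_mulVec 1 s u x
    rwa [Equiv.Perm.one_apply, hs, Units.val_mk0] at this
  have e2 : φ ᵥ* (((mon 1 s)⁻¹ : GL (Fin 3) F) : Matrix (Fin 3) (Fin 3) F) = fun x => φ x * (r x / t) := by
    have : (fun x => φ x * (r x / t)) ᵥ* (mon 1 s : Matrix (Fin 3) (Fin 3) F) = φ := funext fun x => by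
      rw [mon_vecMul, Equiv.Perm.one_apply, hs, Units.val_mk0]
      have := hr0 x
      field_simp
    conv_lhs => rw [← this]
    rw [vecMul_vecMul, ← Units.val_mul, mul_inv_cancel, Units.val_one, vecMul_one]
  rw [e1, e2] at h1
  have h2 := hy_hy S h h1
  have hi1 : (fun x => φ x * (r x / t)) ⬝ᵥ u = (∑ x, u x * φ x * r x) / t := by
    rw [Finset.sum_div]; exact Finset.sum_congr rfl fun x _ => by ring
  have hi2 : φ ⬝ᵥ (fun x => t / r x * u x) = t * ∑ x, u x * φ x / r x := by
    rw [Finset.mul_sum]; exact Finset.sum_congr rfl fun x _ => by ring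
  rw [hi1, hi2, sum_three hd, sum_three hd, ri, rj, rk, div_one, mul_one] at h2
  have h3 := (bal S h2 i).1 (by
    rw [Pi.add_apply, Pi.smul_apply, smul_eq_mul, ri, ← mul_div_assoc, he]
    field_simp
    ring)
  rw [Pi.add_apply, Pi.smul_apply, smul_eq_mul, ri] at h3
  have hφi : φ i ≠ 0 := fun e => hi ((bal S h i).2 e)
  have h4 : φ i * (1 + (μ⁻¹ - 1) * (u i * φ i + u j * φ j / A + u k * φ k / B)) = 0 := by
    rw [← h3]; field_simp
  linear_combination (mul_eq_zero.1 h4).resolve_left hφi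

/-- support two: the weight on one side is determined -/
theorem two_key {u φ : Fin 3 → F} (h : Hy M a μ u φ) {i j k : Fin 3} (hd : Dist i j k) (hi : u i ≠ 0)
    (hj : u j ≠ 0) (hk : u k = 0) (hn : 1 + (μ - 1) * (u i * φ i) ≠ 0) :
    μ + (μ - 1) ^ 2 * (u j * φ j) = 0 := by
  have hv : u j * φ j ≠ 0 := mul_ne_zero hj fun e => hj ((bal S h j).2 e)
  have h1 := sum_one h hd
  rw [hk, zero_mul, add_zero] at h1
  set R := -(1 + (μ - 1) * (u i * φ i)) / ((μ - 1) * (u j * φ j)) with hR
  have hR0 : R ≠ 0 := div_ne_zero (neg_ne_zero.2 hn) (mul_ne_zero S.m0 hv)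
  have hm0 := S.m0
  have hφj := right_ne_zero_of_mul hv
  have hRe : R * ((μ - 1) * (u j * φ j)) = -(1 + (μ - 1) * (u i * φ i)) :=
    div_mul_cancel₀ _ (mul_ne_zero S.m0 hv)
  have h2 := move S h hd hi hR0 (inv_ne_zero hR0) (t := 1)
    (by rw [mul_inv_cancel₀ hR0]; ring) (by
      rw [hk, hR]
      field_simp
      ring)
  rw [hk] at h2
  simp only [zero_mul, zero_div, add_zero] at h2
  have := S.μ0
  clear_value R
  generalize u i * φ i = p at *
  generalize u j * φ j = q at *
  field_simp at h2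
  obtain rfl : p = 1 - q := by linear_combination h1
  linear_combination (-(μ - 1) * q) * h2 + (μ - (μ - 1) * (1 - q)) * hRe

end Cfsg.Agent.Forms.Max.SL3.Lines
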