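import Mathlib
import Cfsg.Agent.Lib.Forms.Max.SL3.Lines.Moves

/-!
# Supports in characteristic two

The monomial transvections play the part of the reflections.
-/

set_option autoImplicit false
set_option linter.unusedSectionVars false

namespace Cfsg.Agent.Forms.Max.SL3.Lines

open Matrix Cfsg.Agent.Forms.Max Cfsg.Agent.Forms.Max.LinearMono

variable {F : Type*} [Field F] {M : Subgroup (GL (Fin 3) F)} {a μ : F}
  (S : Std M a μ) (hμ : μ ^ 3 ≠ 1) (h2 : (2 : F) = 0)

include S hμ h2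

/-- monomial transvections -/
theorem rt_swap {p q : Fin 3} (hpq : p ≠ q) {ρ : F} (hρ : ρ ≠ 0) :
    Rt M (ρ • E F p + E F q) (ρ⁻¹ • E F p + E F q) := by
  obtain ⟨k, hd⟩ := others_two hpq
  obtain ⟨d1, d2, d3⟩ := id hd
  set s : Fin 3 → Fˣ := fun j => if j = q then Units.mk0 ρ hρ
    else if j = p then Units.mk0 ρ⁻¹ (inv_ne_zero hρ) else 1
  refine ⟨?_, mon (Equiv.swap p q) s, mon_mem S.above ?_, fun x => funext fun j => ?_⟩
  · simp [hpq, hpq.symm, hρ]
    linear_combination h2
  · rw [Equiv.Perm.sign_swap hpq, prod_three hd]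
    simp [s, d1, d2.symm, d3.symm, hρ]
    linear_combination -h2
  · obtain ⟨y, rfl⟩ := (Equiv.swap p q).surjective j
    rw [mon_mulVec, Pi.add_apply, Pi.smul_apply]
    simp only [add_dotProduct, smul_dotProduct, single_dotProduct, one_mul, smul_eq_mul]
    by_cases hy : y = p
    · subst hy
      simp [s, hpq, hpq.symm, Equiv.swap_apply_left]
      linear_combination -(x q) * h2
    by_cases hy' : y = q
    · subst hy'
      simp [s, hpq, hpq.symm, Equiv.swap_apply_right]
      field_simp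
      linear_combination -(x p) * h2
    rw [Equiv.swap_apply_of_ne_of_ne hy hy']
    simp [s, hy, hy']

theorem pair_eq₂ {u φ : Fin 3 → F} (h : Hy M a μ u φ) {p q l : Fin 3} (hpq : p ≠ q) (hlp : l ≠ p) (hlq : l ≠ q)
    (hp : u p ≠ 0) (hq' : u q ≠ 0) (hl : u l ≠ 0) : u p * φ p = u q * φ q := by
  set ρ := u p / u q with hρd
  have hρ : ρ ≠ 0 := div_ne_zero hp hq'
  have hu : (ρ⁻¹ • E F p + E F q) ⬝ᵥ u = 0 := by
    simp [hρd]; field_simp; linear_combination (u q) * h2
  have h' := rt_step_col S (rt_swap S hμ h2 hpq hρ) h hu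
  by_contra hne
  have hc : (μ - 1) * (φ ⬝ᵥ (ρ • E F p + E F q)) ≠ 0 := mul_ne_zero S.m0 fun e => hne (by
    simp [hρd, dotProduct_add, dotProduct_smul] at e
    field_simp at e
    linear_combination e - (φ q * u q) * h2)
  have h'' := rt_step_col S h' (hy_axis S l) (by simp [hlp, hlq])
  refine absurd (no_row S ?_ h'') fun e => ?_
  · simp only [single_dotProduct, one_mul, Pi.smul_apply, smul_eq_mul]
    exact mul_ne_zero S.m0 (mul_ne_zero hc hl)
  · have := congrFun e q
    simp [hpq.symm] at this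

theorem no_three₂ {u φ : Fin 3 → F} (h : Hy M a μ u φ) {p q l : Fin 3} (hd : Dist p q l)
    (hp : u p ≠ 0) (hq' : u q ≠ 0) (hl : u l ≠ 0) : False := by
  obtain ⟨hpq, hpl, hql⟩ := id hd
  have e1 := pair_eq₂ S hμ h2 h hpq hpl.symm hql.symm hp hq' hl
  have e2 := pair_eq₂ S hμ h2 h hql hpq hpl hq' hl hp
  have h1 := sum_one h hd
  rw [← e2, ← e1] at h1
  have hv : u p * φ p = 1 := by linear_combination h1 - (u p * φ p) * h2
  have hvq : u q * φ q = 1 := by rw [← e1, hv]
  have hμ0 := S.μ0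
  have hm := S.m0
  set r := (μ - 1) / μ with hr
  have hre : r * μ = μ - 1 := div_mul_cancel₀ _ hμ0
  clear_value r
  set ρ := r * u p / u q with hρd
  have hr0 : r ≠ 0 := fun e => hm (by rw [← hre, e, zero_mul])
  have hρ : ρ ≠ 0 := div_ne_zero (mul_ne_zero hr0 hp) hq'
  have h' := rt_hy S (rt_swap S hμ h2 hpq hρ) h
  set U := ρ • E F p + E F q + ((μ - 1) * (φ ⬝ᵥ (ρ • E F p + E F q))) • u with hU
  set Φ := ρ⁻¹ • E F p + E F q + ((μ⁻¹ - 1) * ((ρ⁻¹ • E F p + E F q) ⬝ᵥ u)) • φ with hΦ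
  have hUp : U p = 0 := by
    have hz : u q * ρ = r * u p := by rw [hρd, mul_div_cancel₀ _ hq']
    have key : u q * (ρ + (μ - 1) * (ρ * φ p + φ q) * u p) = 0 := by
      linear_combination (1 + (μ - 1) * (φ p * u p)) * hz + ((μ - 1) * r * u p) * hv + ((μ - 1) * u p) * hvq +
        u p * hre + (u p * (μ - 1)) * h2
    simp [hU, dotProduct_add, dotProduct_smul, hpq]
    exact (mul_eq_zero.1 key).resolve_left hq'
  have h'' := rt_step_row S h' (hy_axis S p) (by rw [single_dotProduct, one_mul, hUp])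
  rw [dotProduct_single, mul_one] at h''
  have hΦp : Φ p ≠ 0 := fun e => by
    simp [hΦ, hρd, hpq] at e
    field_simp at e
    have h6 : μ ^ 2 + μ + 1 = 0 := by
      have e' : μ + u p * (1 - μ) * (1 + r) * φ p = 0 := mul_left_cancel₀ hq' (by linear_combination e)
      linear_combination μ * e' - μ * (1 - μ) * (1 + r) * hv - (1 - μ) * hre + (μ ^ 2 - μ + 1) * h2
    exact hμ (by linear_combination (μ - 1) * h6)
  have hU0 : U = 0 := no_col S (mul_ne_zero S.m0' hΦp) h''
  have := congrFun hU0 l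
  simp [hU, hpl.symm, hql.symm, dotProduct_add, dotProduct_smul, hl, hm, hρd] at this
  field_simp at this
  have h7 : r + 1 = 0 := by linear_combination this - r * hv - hvq
  exact one_ne_zero (show (1 : F) = 0 by linear_combination μ * h7 - hre - (μ - 1) * h2)

theorem no_two₂ {u φ : Fin 3 → F} (h : Hy M a μ u φ) {i j : Fin 3} (hij : i ≠ j) (hi : u i ≠ 0)
    (hj : u j ≠ 0) : False := by
  obtain ⟨k, hd⟩ := others_two hij
  obtain ⟨d1, d2, d3⟩ := id hd
  by_cases hk : u k = 0
  swap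
  · exact no_three₂ S hμ h2 h hd hi hj hk
  have hμ1 : μ ≠ -1 := fun e => S.ne_one (by rw [e]; linear_combination -h2)
  have h1 := sum_one h hd
  rw [hk, zero_mul, add_zero] at h1
  have e1 := two_key S h hd hi hj hk (nc S hμ1 h i)
  have e2 := two_key S h (i := j) (j := i) ⟨d1.symm, d3, d2⟩ hj hi hk (nc S hμ1 h j)
  exact S.m0 ((pow_eq_zero_iff (n := 2) (by norm_num)).1 (by
    linear_combination e1 + e2 - (μ - 1) ^ 2 * h1 - μ * h2))

end Cfsg.Agent.Forms.Max.SL3.Lines
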