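import Mathlib
import Cfsg.Agent.Lib.Forms.Max.SL3.Lines.Moves

/-!
# Supports in odd characteristic, factor minus one
-/

set_option autoImplicit false
set_option linter.unusedSectionVars false

namespace Cfsg.Agent.Forms.Max.SL3.Lines

open Matrix Cfsg.Agent.Forms.Max Cfsg.Agent.Forms.Max.LinearMono

variable {F : Type*} [Field F] {M : Subgroup (GL (Fin 3) F)} {a μ : F}
  (S : Std M a μ) (hμ : μ = -1) (h2 : (2 : F) ≠ 0)

include S hμ h2

/-- monomial reflections on two coordinates -/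
theorem hy_half {p q : Fin 3} (hpq : p ≠ q) {ρ : F} (hρ : ρ ≠ 0) :
    Hy M a μ (ρ • E F p + E F q) ((2 * ρ)⁻¹ • E F p + (2 : F)⁻¹ • E F q) := by
  obtain ⟨k, hd⟩ := others_two hpq
  obtain ⟨d1, d2, d3⟩ := id hd
  have ha := S.a0
  set s : Fin 3 → Fˣ := fun j => if j = q then Units.mk0 (-(a * ρ)) (neg_ne_zero.2 (mul_ne_zero ha hρ))
    else if j = p then Units.mk0 (-(a / ρ)) (neg_ne_zero.2 (div_ne_zero ha hρ)) else Units.mk0 a ha
  refine ⟨?_, mon (Equiv.swap p q) s, mon_mem S.above ?_, fun x => funext fun j => ?_⟩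
  · simp [add_dotProduct, smul_dotProduct, single_dotProduct, hpq, hpq.symm]
    field_simp
    norm_num
  · rw [Equiv.Perm.sign_swap hpq, prod_three hd]
    simp [s, d1, d2.symm, d3.symm]
    have := S.pow
    rw [hμ] at this
    field_simp
    linear_combination this
  · obtain ⟨y, rfl⟩ := (Equiv.swap p q).surjective j
    rw [mon_mulVec, Pi.smul_apply, Pi.add_apply, Pi.smul_apply, hμ]
    simp only [add_dotProduct, smul_dotProduct, single_dotProduct, one_mul, smul_eq_mul]
    by_cases hy : y = p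
    · subst hy; simp [s, hpq, hpq.symm, Equiv.swap_apply_left]; field_simp; ring
    by_cases hy' : y = q
    · subst hy'; simp [s, hpq, hpq.symm, Equiv.swap_apply_right]; field_simp; ring
    rw [Equiv.swap_apply_of_ne_of_ne hy hy']
    simp [s, hy, hy']

theorem pair_eq {u φ : Fin 3 → F} (h : Hy M a μ u φ) {p q l : Fin 3} (hpq : p ≠ q) (hlp : l ≠ p) (hlq : l ≠ q)
    (hp : u p ≠ 0) (hq' : u q ≠ 0) (hl : u l ≠ 0) : u p * φ p = u q * φ q := by
  have hφp : φ p ≠ 0 := fun e => hp ((bal S h p).2 e)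
  have hφq : φ q ≠ 0 := fun e => hq' ((bal S h q).2 e)
  set ρ := -(φ q / φ p) with hρd
  have hρ : ρ ≠ 0 := neg_ne_zero.2 (div_ne_zero hφq hφp)
  have h' := hy_hy S (hy_half S hμ h2 hpq hρ) h
  have hw : φ ⬝ᵥ (ρ • E F p + E F q) = 0 := by
    simp [dotProduct_add, dotProduct_smul, dotProduct_single, hρd]; field_simp; ring
  rw [hw, mul_zero, zero_smul, add_zero] at h'
  have h1 := (bal S h' l).1 (by simp [hlp, hlq])
  simp [add_dotProduct, smul_dotProduct, single_dotProduct, hlp, hlq] at h1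
  rcases h1 with (h1 | h1) | h1
  · exact absurd (sub_eq_zero.1 h1) (by rw [hμ, inv_neg, inv_one]; intro e; exact h2 (by linear_combination -e))
  · rw [hρd] at h1; field_simp at h1; linear_combination -h1
  · exact absurd h1 fun e => hl ((bal S h l).2 e)

theorem no_three {u φ : Fin 3 → F} (h : Hy M a μ u φ) {p q l : Fin 3} (hd : Dist p q l)
    (hp : u p ≠ 0) (hq' : u q ≠ 0) (hl : u l ≠ 0) : False := by
  obtain ⟨hpq, hpl, hql⟩ := id hd
  have e1 := pair_eq S hμ h2 h hpq hpl.symm hql.symm hp hq' hl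
  have e2 := pair_eq S hμ h2 h hql hpq hpl hq' hl hp
  have h1 := sum_one h hd
  rw [← e2, ← e1] at h1
  set ρ := 2 * u p / u q with hρd
  have hρ : ρ ≠ 0 := div_ne_zero (mul_ne_zero h2 hp) hq'
  have h' := hy_hy S (hy_half S hμ h2 hpq hρ) h
  have hz := (bal S h' p).1 (by
    simp [dotProduct_add, dotProduct_smul, dotProduct_single, hμ, hρd, hpq]
    field_simp
    linear_combination (-(2 * u p)) * h1 + (2 * u p) * e1)
  simp [add_dotProduct, smul_dotProduct, single_dotProduct, hμ, hρd, hpq] at hz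
  field_simp at hz
  have h3 : u p * φ p * 6 = 1 := by
    have hz' : 1 + u p * (-1 - 1) * (1 + 2) * φ p = 0 := mul_left_cancel₀ hq' (by linear_combination hz)
    linear_combination -hz'
  exact one_ne_zero (show (1 : F) = 0 by linear_combination h3 - 2 * h1)

theorem supp_half {u φ : Fin 3 → F} (h : Hy M a μ u φ) {i j k : Fin 3} (hd : Dist i j k) (hi : u i ≠ 0)
    (hj : u j ≠ 0) : u k = 0 ∧ 2 * (u i * φ i) = 1 ∧ 2 * (u j * φ j) = 1 := by
  have hk : u k = 0 := by
    by_contra hk; exact no_three S hμ h2 h hd hi hj hk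
  obtain ⟨d1, d2, d3⟩ := id hd
  have h1 := sum_one h hd
  rw [hk, zero_mul, add_zero] at h1
  refine ⟨hk, ?_⟩
  by_cases hv : 2 * (u i * φ i) = 1
  · exact ⟨hv, by linear_combination 2 * h1 - hv⟩
  exfalso
  have hn : ∀ {v : F}, 2 * v ≠ 1 → 1 + (μ - 1) * v ≠ 0 := fun {v} hv e => hv (by rw [hμ] at e; linear_combination -e)
  have e1 := two_key S h hd hi hj hk (hn hv)
  have e2 := two_key S h (i := j) (j := i) ⟨d1.symm, d3, d2⟩ hj hi hk
    (hn fun e => hv (by linear_combination 2 * h1 - e))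
  rw [hμ] at e1 e2
  exact h2 (by linear_combination e1 + e2 - 4 * h1)

end Cfsg.Agent.Forms.Max.SL3.Lines
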